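-- Project AMI (S4294, Amitsur): package [ZD] (helper27).
import Mathlib
import Cfsg.Agent.Lib.Lead.Ami.Defs

set_option autoImplicit false
set_option linter.unusedSectionVars false
set_option linter.deprecated false

namespace Cfsg.Agent.Lib.Helper27.Ami

open Cfsg.Agent.Lib.Lead.Ami

universe u

/-- The commutative core: a sum of four squares vanishing with a nonzero last term. -/
theorem comm_core_zd (hD : PkgDir) (hT : PkgThue) (hG : PkgGauss) {K : Type u} [CommRing K]
    (c s : K) (p : ℕ) (hp : p.Prime) (h7 : 7 ≤ p) (hs : s * s = 5) (hcp : c ^ p = 1)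
    (hc1 : c ≠ 1) (hnzd : ∀ a b : K, a * b = 0 → a = 0 ∨ b = 0)
    (hchar : ∀ n : ℕ, n ≠ 0 → (n : K) ≠ 0) :
    ∃ w x y z : K, w * w + x * x + y * y + z * z = 0 ∧ z ≠ 0 := by
  obtain ⟨l, hl, hl20, hpl⟩ := hD p hp h7
  obtain ⟨r, e, hre⟩ := hT l hl hl20
  obtain ⟨N, Y, Z, hN, hYZ⟩ := hG l hl (by omega)
  have : Fact l.Prime := ⟨hl⟩
  obtain ⟨P, hPdef⟩ : ∃ P : K, P = Polynomial.aeval c (Polynomial.cyclotomic l ℤ) := ⟨_, rfl⟩
  obtain ⟨Yc, hYc⟩ : ∃ Yc : K, Yc = Polynomial.aeval c Y := ⟨_, rfl⟩
  obtain ⟨Zc, hZc⟩ : ∃ Zc : K, Zc = Polynomial.aeval c Z := ⟨_, rfl⟩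
  have hP1 : P * (c - 1) = c ^ l - 1 := by
    have h := congrArg (Polynomial.aeval c) (Polynomial.cyclotomic_prime_mul_X_sub_one ℤ l)
    rw [map_mul, map_sub, map_sub, map_pow, Polynomial.aeval_X, map_one] at h
    rw [hPdef]; exact h
  have hcl : c ^ (l + 1) = 1 := by
    obtain ⟨k, hk⟩ := hpl
    rw [hk, pow_mul, hcp, one_pow]
  have hPc : P * c = -1 := by
    have h0 : (P * c + 1) * (c - 1) = 0 := by linear_combination c * hP1 + hcl
    rcases hnzd _ _ h0 with h | h
    · linear_combination h
    · exact absurd (sub_eq_zero.mp h) hc1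
  obtain ⟨t, ht⟩ : ∃ t : K, t * t = c := by
    refine ⟨c ^ ((p + 1) / 2), ?_⟩
    have hodd : Odd p := hp.odd_of_ne_two (by omega)
    obtain ⟨m, hm⟩ := hodd
    rw [← pow_add]
    have e1 : (p + 1) / 2 + (p + 1) / 2 = p + 1 := by omega
    rw [e1, pow_succ, hcp, one_mul]
  have hG' : (4 * (N : K) ^ 2) * P = Yc ^ 2 + (l : K) * Zc ^ 2 := by
    have h := congrArg (Polynomial.aeval c) hYZ
    simp only [map_mul, map_add, map_pow, map_ofNat, map_natCast] at h
    rw [← hPdef, ← hYc, ← hZc] at h
    linear_combination h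
  have hT' : (r : K) ^ 2 + 5 * (e : K) ^ 2 = 2 * (l : K) := by
    have h := congrArg (fun n : ℤ => (n : K)) hre
    push_cast at h
    exact h
  refine ⟨2 * Yc * t, ((r : K) + e * s) * Zc * t, ((r : K) - e * s) * Zc * t,
    ((4 * N : ℕ) : K), ?_, hchar _ (by omega)⟩
  push_cast
  linear_combination (4 * Yc ^ 2 + (2 * (r : K) ^ 2 + 2 * (e : K) ^ 2 * s ^ 2) * Zc ^ 2) * ht
    + (2 * (e : K) ^ 2 * Zc ^ 2 * c) * hs + (2 * Zc ^ 2 * c) * hT' - (4 * c) * hG'
    + (16 * (N : K) ^ 2) * hPc

section quat

variable {D : Type u} [DivisionRing D] [CharZero D]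

theorem norm_zd (a b i : D) (hab : Commute a b) (hai : Commute a i) (hbi : Commute b i)
    (hi : i * i = -1) : (a + b * i) * (a - b * i) = a * a + b * b := by
  have c1 : a * (b * i) = (b * i) * a := (hab.mul_right hai).eq
  have c2 : (b * i) * (b * i) = -(b * b) := by
    calc (b * i) * (b * i) = b * ((i * b) * i) := by simp only [mul_assoc]
      _ = b * ((b * i) * i) := by rw [hbi.eq]
      _ = b * b * (i * i) := by simp only [mul_assoc]
      _ = -(b * b) := by rw [hi, mul_neg, mul_one]
  calc (a + b * i) * (a - b * i)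
      = a * a - a * (b * i) + (b * i) * a - (b * i) * (b * i) := by noncomm_ring
    _ = a * a + b * b := by rw [c1, c2]; abel

theorem conj_zd (a b i j : D) (haj : Commute a j) (hbj : Commute b j)
    (hij : i * j = -(j * i)) : j * (a - b * i) = (a + b * i) * j := by
  have hji : j * i = -(i * j) := by rw [hij, neg_neg]
  calc j * (a - b * i) = j * a - (j * b) * i := by rw [mul_sub, mul_assoc]
    _ = a * j - (b * j) * i := by rw [haj.eq, hbj.eq]
    _ = a * j - b * (j * i) := by rw [mul_assoc]
    _ = (a + b * i) * j := by rw [hji, add_mul]; noncomm_ring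

theorem conj_zd' (a b i j : D) (haj : Commute a j) (hbj : Commute b j)
    (hij : i * j = -(j * i)) : j * (a + b * i) = (a - b * i) * j := by
  have hji : j * i = -(i * j) := by rw [hij, neg_neg]
  calc j * (a + b * i) = j * a + (j * b) * i := by rw [mul_add, mul_assoc]
    _ = a * j + (b * j) * i := by rw [haj.eq, hbj.eq]
    _ = a * j + b * (j * i) := by rw [mul_assoc]
    _ = (a - b * i) * j := by rw [hji, sub_mul]; noncomm_ring

/-- If `U` and `V` commute with `i` and `U = V j` then `V = 0`. -/
theorem anti_zd (U V i j : D) (hUi : Commute U i) (hVi : Commute V i) (hi : i * i = -1)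
    (hj : j * j = -1) (hij : i * j = -(j * i)) (h : U = V * j) : V = 0 := by
  have hi0 : i ≠ 0 := by
    intro h0
    rw [h0, mul_zero] at hi
    exact one_ne_zero (neg_eq_zero.mp hi.symm)
  have hj0 : j ≠ 0 := by
    intro h0
    rw [h0, mul_zero] at hj
    exact one_ne_zero (neg_eq_zero.mp hj.symm)
  have e1 : U * i = -(U * i) := by
    calc U * i = i * U := hUi.eq
      _ = (i * V) * j := by rw [h, mul_assoc]
      _ = V * (i * j) := by rw [hVi.eq.symm, mul_assoc]
      _ = -(V * j * i) := by rw [hij, mul_neg, mul_assoc]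
      _ = -(U * i) := by rw [← h]
  have e2 : U * i = 0 := by
    have : U * i + U * i = 0 := by nth_rewrite 1 [e1]; exact neg_add_cancel _
    exact add_self_eq_zero.mp this
  have e3 : U = 0 := by
    rcases mul_eq_zero.mp e2 with h0 | h0
    · exact h0
    · exact absurd h0 hi0
  rw [e3] at h
  rcases mul_eq_zero.mp h.symm with h0 | h0
  · exact h0
  · exact absurd h0 hj0

/-- The quaternion step. -/
theorem quat_zd (i j w x y z : D) (hi : i * i = -1) (hj : j * j = -1) (hij : i * j = -(j * i))
    (hwx : Commute w x) (hwy : Commute w y) (hwz : Commute w z) (hxy : Commute x y)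
    (hxz : Commute x z) (hyz : Commute y z)
    (hwi : Commute w i) (hxi : Commute x i) (hyi : Commute y i) (hzi : Commute z i)
    (hwj : Commute w j) (hxj : Commute x j) (hyj : Commute y j) (hzj : Commute z j)
    (hsum : w * w + x * x + y * y + z * z = 0) (hz : z ≠ 0) : False := by
  have hA := norm_zd w x i hwx hwi hxi hi
  have hB := norm_zd y z i hyz hyi hzi hi
  have hjA := conj_zd w x i j hwj hxj hij
  have hjB := conj_zd' y z i j hyj hzj hij
  have hii : Commute i i := Commute.refl i
  have hAi : Commute (w + x * i) i := hwi.add_left (hxi.mul_left hii)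
  have hA'i : Commute (w - x * i) i := hwi.sub_left (hxi.mul_left hii)
  have hBi : Commute (y + z * i) i := hyi.add_left (hzi.mul_left hii)
  have hAB : Commute (w + x * i) (y + z * i) := by
    have h1 : Commute w (y + z * i) := hwy.add_right (hwz.mul_right hwi)
    have h2 : Commute (x * i) (y + z * i) :=
      (hxy.add_right (hxz.mul_right hxi)).mul_left (hyi.symm.add_right (hzi.symm.mul_right hii))
    exact h1.add_left h2
  have key : ((w + x * i) + (y + z * i) * j) * ((w - x * i) - (y + z * i) * j) = 0 := by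
    have e1 : (y + z * i) * j * (w - x * i) = (y + z * i) * (w + x * i) * j := by
      rw [mul_assoc, hjA, ← mul_assoc]
    have e2 : (y + z * i) * j * ((y + z * i) * j) = -((y + z * i) * (y - z * i)) := by
      calc (y + z * i) * j * ((y + z * i) * j) = (y + z * i) * (j * (y + z * i)) * j := by
            simp only [mul_assoc]
        _ = (y + z * i) * (y - z * i) * (j * j) := by rw [hjB]; simp only [mul_assoc]
        _ = -((y + z * i) * (y - z * i)) := by rw [hj, mul_neg, mul_one]
    calc ((w + x * i) + (y + z * i) * j) * ((w - x * i) - (y + z * i) * j)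
        = (w + x * i) * (w - x * i) - (w + x * i) * (y + z * i) * j
          + (y + z * i) * j * (w - x * i) - (y + z * i) * j * ((y + z * i) * j) := by
          noncomm_ring
      _ = (w * w + x * x) + (y * y + z * z) := by
          rw [e1, e2, hA, hB, hAB.eq]; abel
      _ = 0 := by rw [← hsum]; abel
  have hB0 : y + z * i = 0 := by
    rcases mul_eq_zero.mp key with h | h
    · have h' : w + x * i = (-(y + z * i)) * j := by
        rw [neg_mul]; exact eq_neg_of_add_eq_zero_left h
      have := anti_zd _ _ i j hAi hBi.neg_left hi hj hij h'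
      exact neg_eq_zero.mp this
    · have h' : w - x * i = (y + z * i) * j := sub_eq_zero.mp h
      exact anti_zd _ _ i j hA'i hBi hi hj hij h'
  -- now `z * i = -y` commutes with `j`
  have hzi' : z * i = -y := eq_neg_of_add_eq_zero_right hB0
  have h1 : Commute (z * i) j := by rw [hzi']; exact hyj.neg_left
  have h2 : z * (i * j) = z * (j * i) := by
    calc z * (i * j) = (z * i) * j := by rw [mul_assoc]
      _ = j * (z * i) := h1.eq
      _ = z * (j * i) := by rw [← mul_assoc, hzj.eq.symm, mul_assoc]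
  have h3 : i * j = j * i := mul_left_cancel₀ hz h2
  have h4 : i * j = 0 := by
    have : i * j + i * j = 0 := by nth_rewrite 2 [hij]; rw [← h3]; exact add_neg_cancel _
    exact add_self_eq_zero.mp this
  rcases mul_eq_zero.mp h4 with h0 | h0
  · rw [h0, mul_zero] at hi
    exact one_ne_zero (neg_eq_zero.mp hi.symm)
  · rw [h0, mul_zero] at hj
    exact one_ne_zero (neg_eq_zero.mp hj.symm)

end quat

/-- [ZD] -/
theorem pkgZD_of (hD : PkgDir) (hT : PkgThue) (hG : PkgGauss) : PkgZD.{u} := by
  intro D _ _ i j c s p hp h7 hi hj hij hs hci hcj hsi hsj hcs hcp hc1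
  classical
  have hcomm : ∀ a ∈ ({c, s} : Set D), ∀ b ∈ ({c, s} : Set D), a * b = b * a := by
    intro a ha b hb
    rcases ha with rfl | ha <;> rcases hb with rfl | hb
    · rfl
    · rw [Set.mem_singleton_iff.mp hb]; exact hcs.eq
    · rw [Set.mem_singleton_iff.mp ha]; exact hcs.eq.symm
    · rw [Set.mem_singleton_iff.mp ha, Set.mem_singleton_iff.mp hb]
  have hcK : c ∈ Subring.closure ({c, s} : Set D) := Subring.subset_closure (by simp)
  have hsK : s ∈ Subring.closure ({c, s} : Set D) := Subring.subset_closure (by simp)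
  -- the closure commutes with `i` and `j`
  have hcent : Subring.closure ({c, s} : Set D) ≤ Subring.centralizer ({i, j} : Set D) := by
    rw [Subring.closure_le]
    intro a ha
    rw [SetLike.mem_coe, Subring.mem_centralizer_iff]
    intro g hg
    rcases ha with rfl | ha <;> rcases hg with rfl | hg
    · exact hci.eq.symm
    · rw [Set.mem_singleton_iff.mp hg]; exact hcj.eq.symm
    · rw [Set.mem_singleton_iff.mp ha]; exact hsi.eq.symm
    · rw [Set.mem_singleton_iff.mp ha, Set.mem_singleton_iff.mp hg]; exact hsj.eq.symm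
  have hKi : ∀ a ∈ Subring.closure ({c, s} : Set D), Commute a i := by
    intro a ha
    have := Subring.mem_centralizer_iff.mp (hcent ha) i (by simp)
    exact this.symm
  have hKj : ∀ a ∈ Subring.closure ({c, s} : Set D), Commute a j := by
    intro a ha
    have := Subring.mem_centralizer_iff.mp (hcent ha) j (by simp)
    exact this.symm
  let _ : CommRing (Subring.closure ({c, s} : Set D)) := Subring.closureCommRingOfComm hcomm
  have hnzd : ∀ a b : Subring.closure ({c, s} : Set D), a * b = 0 → a = 0 ∨ b = 0 := by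
    intro a b h
    have h' : (a : D) * (b : D) = 0 := congrArg Subtype.val h
    rcases mul_eq_zero.mp h' with h0 | h0
    · left; exact Subtype.ext h0
    · right; exact Subtype.ext h0
  have hchar : ∀ n : ℕ, n ≠ 0 → ((n : Subring.closure ({c, s} : Set D))) ≠ 0 := by
    intro n hn h
    have h' : ((n : ℕ) : D) = 0 := congrArg Subtype.val h
    exact hn (Nat.cast_eq_zero.mp h')
  obtain ⟨w, x, y, z, hsum, hz⟩ := comm_core_zd hD hT hG
    (K := Subring.closure ({c, s} : Set D)) ⟨c, hcK⟩ ⟨s, hsK⟩ p hp h7 (Subtype.ext hs)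
    (Subtype.ext hcp) (fun h => hc1 (congrArg Subtype.val h)) hnzd hchar
  have hsum' : (w : D) * w + x * x + y * y + z * z = 0 := congrArg Subtype.val hsum
  have hz' : (z : D) ≠ 0 := fun h => hz (Subtype.ext h)
  have hcm : ∀ a b : Subring.closure ({c, s} : Set D), Commute (a : D) (b : D) := by
    intro a b
    exact congrArg Subtype.val (mul_comm a b)
  exact quat_zd i j w x y z hi hj hij (hcm w x) (hcm w y) (hcm w z) (hcm x y) (hcm x z)
    (hcm y z) (hKi _ w.2) (hKi _ x.2) (hKi _ y.2) (hKi _ z.2) (hKj _ w.2) (hKj _ x.2)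
    (hKj _ y.2) (hKj _ z.2) hsum' hz'

end Cfsg.Agent.Lib.Helper27.Ami
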